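import Groth.Agent.H12Pic.OpenLine.Rigid
import Groth.Agent.H29Ref.DenseExt
import Groth.Agent.H29Ref.BigOpen
import Groth.Agent.H06Unram.AffineSpaceSmooth
import Groth.Agent.H28Neron.NormalSmooth
import Groth.Agent.H28Alg.RegularUFD
import Groth.Agent.H12Pic.PicCurve.ValUnits
import Groth.Agent.H11Ample.Converse
import Groth.Agent.H8Props.Reduced
import Groth.Agent.H11Ample.RelQuasiAffine
import Groth.Agent.H12Pic.PicCurve.SqZeroPic
import Groth.Agent.S4991

/-!
# Line bundles on open pieces of affine space over a normal base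
-/

set_option autoImplicit false
set_option linter.style.haveILetI false

universe u

open CategoryTheory CategoryTheory.Limits AlgebraicGeometry TopologicalSpace Opposite
open Groth.Agent.H11Tilde Groth.Agent.H29Ref

namespace Groth.Agent.H12Pic.OpenLine

/-- A generator over the whole scheme trivialises. -/
theorem nonempty_iso_of_isGen_top {X : Scheme.{u}} (L : X.Modules) (g : Γ(L, ⊤)) (hg : IsGen L g) :
    Nonempty (L ≅ Coh.structureModule X) := by
  obtain ⟨e⟩ := nonempty_iso_structureModule L ⊤ g fun V hV => hg.bijective hV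
  obtain ⟨eO⟩ := H11Ample.nonempty_pullback_structureModule_iso X.topIso.inv
  exact ⟨((Scheme.Modules.pullbackId X).app L).symm ≪≫
    (Scheme.Modules.pullbackCongr X.topIso.inv_hom_id.symm).app L ≪≫
    ((Scheme.Modules.pullbackComp X.topIso.inv (Scheme.Opens.ι ⊤)).app L).symm ≪≫
    (Scheme.Modules.pullback X.topIso.inv).mapIso
      (((Scheme.Modules.restrictFunctorIsoPullback (Scheme.Opens.ι ⊤)).app L).symm ≪≫ e) ≪≫ eO⟩

/-- Invertible modules on the spectrum of a factorial ring are trivial. -/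
theorem nonempty_iso_of_ufd {R : CommRingCat.{u}} [IsDomain R] [UniqueFactorizationMonoid R]
    (L : (Spec R).Modules) (hL : PicF.IsInvertible L) :
    Nonempty (L ≅ Coh.structureModule (Spec R)) := by
  haveI : L.IsQuasicoherent := H28Mero.isQCoh_of_isInvertible hL
  have hcov : ∀ y : PrimeSpectrum R, ∃ (b : R) (m : Γ(L, ⊤)), b ∉ y.asIdeal ∧ H11Tilde.GenOn b m := fun y => by
    obtain ⟨O, e, hy, he⟩ := H11Ample.exists_gen hL y
    obtain ⟨_, ⟨b, rfl⟩, hyb, hbO⟩ :=
      PrimeSpectrum.isTopologicalBasis_basic_opens.exists_subset_of_mem_open (show y ∈ O from hy) O.isOpen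
    have heb := he.res (show Db b ≤ O from hbO)
    obtain ⟨n, q, hq⟩ := exists_pow_smul_eq_map L b (L.presheaf.map (homOfLE (show Db b ≤ O from hbO)).op e)
    refine ⟨b, q, hyb, genOn_of_isGen L ?_⟩
    rw [hq, smul_eq_cst_smul]
    exact PicCurve.SqZeroPic.isGen_smul heb (by rw [map_pow]; exact (isUnit_cst le_rfl).pow n)
  obtain ⟨-, -, hinv⟩ := PicCurve.ValUnits.finite_projective_invertible_of_genOn hcov
  haveI := hinv
  haveI : Module.Free R Γ(L, ⊤) := CommRing.Pic.mk_eq_one_iff_free.1 (Subsingleton.elim _ _)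
  obtain ⟨θ⟩ := Module.Invertible.free_iff_linearEquiv.1 (inferInstance : Module.Free R Γ(L, ⊤))
  have hgen : H11Tilde.GenOn (1 : R) (θ.symm 1) := by
    refine ⟨fun q => ⟨0, θ q, ?_⟩, fun a ha => ⟨0, ?_⟩⟩
    · rw [pow_zero, one_smul, ← map_smul, smul_eq_mul, mul_one, θ.symm_apply_apply]
    · rw [← map_smul, θ.symm.map_eq_zero_iff, smul_eq_mul, mul_one] at ha
      rw [ha, mul_zero]
  have hg := isGen_of_genOn L hgen
  have hle : (⊤ : (Spec R).Opens) ≤ Db (1 : R) := fun y _ => y.2.one_notMem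
  exact nonempty_iso_of_isGen_top L _ (hg.res hle)

/-- Local rings of dimension at most one of a normal scheme are regular. -/
theorem isRegularLocalRing_of_coheight_le_one {Y : Scheme.{u}} [IsIntegral Y] [IsLocallyNoetherian Y]
    (hY : Pi1.IsNormalScheme Y) {e : Y} (he : Order.coheight e ≤ 1) :
    IsRegularLocalRing (Y.presheaf.stalk e) := by
  by_cases h1 : (1 : WithBot ℕ∞) ≤ ringKrullDim (Y.presheaf.stalk e)
  · haveI := isDiscreteValuationRing_stalk hY e (le_antisymm
      (by rw [ringKrullDim_stalk_eq_coheight]; exact_mod_cast he) h1)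
    infer_instance
  · letI := (isField_of_dim_zero e h1).toField
    infer_instance

theorem ufd_of_smooth {X Y : Scheme.{u}} (f : X ⟶ Y) [Smooth f] [IsLocallyNoetherian Y] (x : X)
    (h : IsRegularLocalRing (Y.presheaf.stalk (f x))) : UniqueFactorizationMonoid (X.presheaf.stalk x) := by
  haveI := (S4991.result f x ⟨⊤, trivial, inferInstance⟩).2 h
  haveI := H4Depth.isDomain_of_isRegularLocalRing (X.presheaf.stalk x)
  exact H28Alg.ufd_of_regular _

/-- Invertible modules on an open piece of affine space over a field are trivial. -/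
theorem nonempty_iso_over_field (K : Type u) [Field K] (n : Type u) [Finite n] {P : Scheme.{u}}
    (j : P ⟶ 𝔸(n; Spec (CommRingCat.of K))) [IsOpenImmersion j]
    (M : P.Modules) (hM : PicF.IsInvertible M) : Nonempty (M ≅ Coh.structureModule P) := by
  let A := 𝔸(n; Spec (CommRingCat.of K))
  haveI : Smooth (A ↘ Spec (CommRingCat.of K)) := H06Unram.smooth_affineSpace_over n _
  haveI : IsLocallyNoetherian A := LocallyOfFiniteType.isLocallyNoetherian (A ↘ Spec (CommRingCat.of K))
  let U := j.opensRange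
  let e : P ≅ (U : Scheme.{u}) := j.isoOpensRange
  have hM' : PicF.IsInvertible ((Scheme.Modules.pullback e.inv).obj M) := H11Ample.isInvertible_pullback _ hM
  obtain ⟨L', hL', ⟨θ⟩⟩ := exists_invertible_extension U _ hM' fun x _ => by
    refine ufd_of_smooth (A ↘ Spec (CommRingCat.of K)) x ?_
    rw [Subsingleton.elim ((A ↘ Spec (CommRingCat.of K)) x) (genericPoint (Spec (CommRingCat.of K)))]
    letI := (isField_generic (X := Spec (CommRingCat.of K))).toField
    infer_instance
  let q := AffineSpace.SpecIso n (CommRingCat.of K)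
  obtain ⟨t⟩ := nonempty_iso_of_ufd (R := CommRingCat.of (MvPolynomial n K))
    ((Scheme.Modules.pullback q.inv).obj L') (H11Ample.isInvertible_pullback _ hL')
  obtain ⟨eO⟩ := H11Ample.nonempty_pullback_structureModule_iso (e.hom ≫ U.ι ≫ q.hom)
  exact ⟨((Scheme.Modules.pullbackId P).app M).symm ≪≫
    (Scheme.Modules.pullbackCongr e.hom_inv_id.symm).app M ≪≫
    ((Scheme.Modules.pullbackComp e.hom e.inv).app M).symm ≪≫
    (Scheme.Modules.pullback e.hom).mapIso (θ.symm ≪≫
      (Scheme.Modules.restrictFunctorIsoPullback U.ι).app L') ≪≫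
    (Scheme.Modules.pullbackComp e.hom U.ι).app L' ≪≫
    (Scheme.Modules.pullbackCongr (show e.hom ≫ U.ι = (e.hom ≫ U.ι ≫ q.hom) ≫ q.inv by simp)).app L' ≪≫
    ((Scheme.Modules.pullbackComp _ q.inv).app L').symm ≪≫
    (Scheme.Modules.pullback (e.hom ≫ U.ι ≫ q.hom)).mapIso t ≪≫ eO⟩

/-- A frame over the generic fibre. -/
theorem exists_generic_frame {W Y : Scheme.{u}} [IsIntegral W] [IsLocallyNoetherian W] [IsIntegral Y]
    (p : W ⟶ Y) (hη : p (genericPoint W) = genericPoint Y) (N : W.Modules)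
    (ψ : (Scheme.Modules.pullback (pullback.fst p (Y.fromSpecStalk (genericPoint Y)))).obj N ≅
      Coh.structureModule _) (hN : PicF.IsInvertible N) :
    ∃ v₀ : N.presheaf.stalk (genericPoint W), ∀ x : W, p x = genericPoint Y →
      ∃ t, IsStalkGen N x t ∧ sp N x t = v₀ := by
  let ι := pullback.fst p (Y.fromSpecStalk (genericPoint Y))
  haveI : IsPreimmersion ι := MorphismProperty.pullback_fst (P := @IsPreimmersion) _ _ inferInstance
  haveI : Flat ι := MorphismProperty.pullback_fst (P := @Flat) _ _ inferInstance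
  have hrange : ∀ x : W, p x = genericPoint Y → ∃ x', ι x' = x := fun x hx => by
    obtain ⟨q, hq, -⟩ := Scheme.Pullback.exists_preimage_pullback
      (f := p) (g := Y.fromSpecStalk (genericPoint Y)) x (IsLocalRing.closedPoint _)
      (hx.trans Scheme.fromSpecStalk_closedPoint.symm)
    exact ⟨q, hq⟩
  have hgen : ∀ x', ∃ m : N.presheaf.stalk (ι x'), IsStalkGen N (ι x') m ∧ psi ι N ψ x' m = 1 := fun x' => by
    obtain ⟨V, g, hV, hg⟩ := H11Ample.exists_gen hN (ι x')
    have hu := isUnit_psi ι N ψ x' hV hg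
    obtain ⟨c, hc⟩ := hu.exists_left_inv
    have hb := H8Props.bijective_stalkMap_of_flat ι x' (Flat.stalkMap _ x')
    obtain ⟨a, ha⟩ := hb.2 c
    have hau : IsUnit a := by
      obtain ⟨a', ha'⟩ := hb.2 (psi ι N ψ x' (N.presheaf.germ V (ι x') hV g))
      exact IsUnit.of_mul_eq_one a' (hb.1 (by rw [map_mul, map_one]; rw [ha, ha', hc]))
    have h0 := isStalkGen_germ hg hV
    refine ⟨a • N.presheaf.germ V (ι x') hV g, ⟨?_, ?_, fun w => ?_⟩, ?_⟩
    · rw [Submodule.span_singleton_smul_eq hau, h0.span_eq]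
    · intro h
      obtain ⟨d, hd⟩ := hau
      apply h0.sp_ne
      rw [← one_smul (W.presheaf.stalk (ι x')) (N.presheaf.germ V (ι x') hV g), ← Units.inv_mul d, mul_smul,
        sp_smul, hd, h, smul_zero]
    · obtain ⟨φ, hφ⟩ := h0.exists_smul w
      obtain ⟨d, hd⟩ := hau
      refine ⟨φ * spO (ι x') (↑d⁻¹ : W.presheaf.stalk (ι x')), hφ.trans ?_⟩
      rw [sp_smul, mul_smul, ← mul_smul (spO (ι x') _), ← map_mul, ← hd, Units.inv_mul, map_one, one_smul]
    · rw [psi_smul, ← hc]
      exact congrArg (· * _) ha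
  obtain ⟨ξ', hξ'⟩ := hrange (genericPoint W) hη
  have key : ∀ x' (hs : ξ' ⤳ x') (m : N.presheaf.stalk (ι x')), psi ι N ψ x' m = 1 →
      psi ι N ψ ξ' ((N.presheaf.stalkSpecializes (hs.map ι.continuous)).hom m) = 1 := fun x' hs m hm => by
    rw [psi_specializes ι N ψ hs, hm, map_one]
  obtain ⟨m₀, hm₀, hm₀'⟩ := hgen ξ'
  refine ⟨sp N (ι ξ') m₀, fun x hx => ?_⟩
  obtain ⟨x', rfl⟩ := hrange x hx
  obtain ⟨m, hm, hm'⟩ := hgen x'
  have hs : ξ' ⤳ x' := ι.isEmbedding.isInducing.specializes_iff.1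
    (by rw [hξ']; exact (genericPoint_spec W).specializes trivial)
  refine ⟨m, hm, ?_⟩
  rw [← sp_sp (hs.map ι.continuous) m]
  have hm1 : (N.presheaf.stalkSpecializes (hs.map ι.continuous)).hom m ∈
      Submodule.span (W.presheaf.stalk (ι ξ')) {m₀} := by rw [hm₀.span_eq]; trivial
  obtain ⟨c, hc⟩ := Submodule.mem_span_singleton.1 hm1
  have h1 := key x' hs m hm'
  rw [← hc, psi_smul, hm₀', mul_one] at h1
  have : c = 1 := (H8Props.bijective_stalkMap_of_flat ι ξ' (Flat.stalkMap _ ξ')).1 (h1.trans (map_one _).symm)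
  rw [← hc, this, one_smul]

/-- The fibres of affine space are irreducible. -/
theorem isPreirreducible_fibre {n : Type u} {Y : Scheme.{u}} (e : Y) :
    IsPreirreducible ((𝔸(n; Y) ↘ Y) ⁻¹' {e}) := by
  rw [← Scheme.Hom.range_fiberι, ← Set.image_univ]
  exact (PreirreducibleSpace.isPreirreducible_univ).image _
    ((𝔸(n; Y) ↘ Y).fiberι e).continuous.continuousOn

/-- A rigidified line bundle on an open of affine space over a normal base is trivial. -/
theorem nonempty_iso_of_section {n : Type u} [Finite n] {Y : Scheme.{u}} [IsIntegral Y] [IsNoetherian Y]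
    (hY : Pi1.IsNormalScheme Y) {P : Scheme.{u}} (j : P ⟶ 𝔸(n; Y)) [IsOpenImmersion j]
    (σ : Y ⟶ P) (hσ : σ ≫ j ≫ (𝔸(n; Y) ↘ Y) = 𝟙 Y) (N : P.Modules) (hN : PicF.IsInvertible N)
    (ψ : (Scheme.Modules.pullback σ).obj N ≅ Coh.structureModule Y) :
    Nonempty (N ≅ Coh.structureModule P) := by
  let p := j ≫ (𝔸(n; Y) ↘ Y)
  haveI : Smooth (𝔸(n; Y) ↘ Y) := H06Unram.smooth_affineSpace_over n Y
  haveI : Smooth p := inferInstanceAs (Smooth (j ≫ _))
  haveI : IsLocallyNoetherian P := LocallyOfFiniteType.isLocallyNoetherian p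
  have hpσ : ∀ y : Y, p (σ y) = y := fun y =>
    (Scheme.Hom.comp_apply σ p y).symm.trans (by rw [show σ ≫ p = 𝟙 Y from hσ]; rfl)
  haveI : Nonempty P := ⟨σ (genericPoint Y)⟩
  haveI : IsIntegral P := isIntegral_of_isOpenImmersion j
  have hW : Pi1.IsNormalScheme P := H28Neron.isNormalScheme_of_smooth p hY
  have hη : p (genericPoint P) = genericPoint Y := by
    have h : p (genericPoint P) ⤳ genericPoint Y := by
      have := ((genericPoint_spec P).specializes (Set.mem_univ (σ (genericPoint Y)))).map p.continuous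
      rwa [hpσ] at this
    exact (h.antisymm ((genericPoint_spec Y).specializes trivial)).eq
  have hfib : ∀ e : Y, IsPreirreducible (p ⁻¹' {e}) := fun e => by
    rw [show (p : P → Y) ⁻¹' {e} = j ⁻¹' ((𝔸(n; Y) ↘ Y) ⁻¹' {e}) from by
      rw [← Set.preimage_comp]; rfl]
    exact (isPreirreducible_fibre e).preimage j.isOpenEmbedding
  have hufd : ∀ e : Y, Order.coheight e ≤ 1 → UniqueFactorizationMonoid (P.presheaf.stalk (σ e)) := fun e he =>
    ufd_of_smooth p (σ e) (by rw [hpσ]; exact isRegularLocalRing_of_coheight_le_one hY he)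
  let ι := pullback.fst p (Y.fromSpecStalk (genericPoint Y))
  letI := (isField_generic (X := Y)).toField
  let j' : pullback p (Y.fromSpecStalk (genericPoint Y)) ⟶
      𝔸(n; Spec (Y.presheaf.stalk (genericPoint Y))) :=
    (AffineSpace.isPullback_map (n := n) (Y.fromSpecStalk (genericPoint Y))).lift
      (ι ≫ j) (pullback.snd _ _) (by rw [Category.assoc]; exact pullback.condition)
  have hj' : IsPullback j' ι (AffineSpace.map n (Y.fromSpecStalk (genericPoint Y))) j := by
    refine IsPullback.of_right ?_ (IsPullback.lift_fst _ _ _ _)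
      (AffineSpace.isPullback_map (n := n) (Y.fromSpecStalk (genericPoint Y))).flip
    rw [IsPullback.lift_snd]
    exact (IsPullback.of_hasPullback p _).flip
  haveI : IsOpenImmersion j' := MorphismProperty.of_isPullback (P := @IsOpenImmersion) hj'.flip inferInstance
  obtain ⟨ψK⟩ := nonempty_iso_over_field (Y.presheaf.stalk (genericPoint Y)) n j'
    ((Scheme.Modules.pullback ι).obj N) (H11Ample.isInvertible_pullback _ hN)
  obtain ⟨v₀, hv₀⟩ := exists_generic_frame p hη N ψK hN
  exact nonempty_iso p σ hσ hW hfib hufd N hN ψ hv₀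

end Groth.Agent.H12Pic.OpenLine
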