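import Groth.Agent.H29Ref.DivClass
import Groth.Agent.H26CDiv.Generization
import Groth.Agent.H06EGA12.GeomRkField
import Groth.Agent.H06Mod.StalkPullback
import Groth.Agent.H11Ample.Basic
import Groth.Agent.H28Mero.Gen

/-!
# Rigidified invertible modules over a family with irreducible fibres
-/

set_option autoImplicit false
set_option linter.style.haveILetI false

universe u

open CategoryTheory CategoryTheory.Limits AlgebraicGeometry TopologicalSpace Opposite
open Groth.Agent.H11Tilde Groth.Agent.H29Ref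

namespace Groth.Agent.H12Pic.OpenLine

theorem isUnit_of_coprime_of_map {R A : Type u} [CommRing R] [IsDomain R] [UniqueFactorizationMonoid R]
    [CommRing A] (φ : R →+* A) [IsLocalHom φ] {a b : R} (hb : b ≠ 0) (ha : a ≠ 0)
    (hco : IsRelPrime a b) (huniq : ∀ r s : R, Prime r → Prime s → (r ∣ a ∨ r ∣ b) → (s ∣ a ∨ s ∣ b) → r ∣ s)
    {c : A} (hc : IsUnit c) (h : φ b = φ a * c) : IsUnit a ∧ IsUnit b := by
  by_cases hau : IsUnit a
  · exact ⟨hau, isUnit_of_map_unit φ b (h ▸ (hau.map φ).mul hc)⟩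
  by_cases hbu : IsUnit b
  · exact ⟨isUnit_of_map_unit φ a (isUnit_of_mul_isUnit_left (h ▸ hbu.map φ)), hbu⟩
  obtain ⟨r, hr, hra⟩ := WfDvdMonoid.exists_irreducible_factor hau ha
  obtain ⟨s, hs, hsb⟩ := WfDvdMonoid.exists_irreducible_factor hbu hb
  exact absurd (hco hra ((huniq r s hr.prime hs.prime (Or.inl hra) (Or.inr hsb)).trans hsb)) hr.not_isUnit

section Psi

variable {W Y : Scheme.{u}} (σ : Y ⟶ W) (N : W.Modules)
  (ψ : (Scheme.Modules.pullback σ).obj N ≅ Coh.structureModule Y)

/-- The function attached to a germ through a trivialisation of the pullback. -/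
noncomputable def psi (y : Y) (m : N.presheaf.stalk (σ y)) : Y.presheaf.stalk y :=
  (unitEquiv y).symm (RefHull.stalkMapₗ ψ.hom y (H06Mod.pullStalk σ N y m))

theorem psi_germ (y : Y) {V : W.Opens} (h : σ y ∈ V) (g : Γ(N, V)) :
    psi σ N ψ y (N.presheaf.germ V (σ y) h g) =
      Y.presheaf.germ (σ ⁻¹ᵁ V) y h (ψ.hom.app (σ ⁻¹ᵁ V) (OmegaSh.pullSect σ N V g)) := by
  rw [psi, H06Mod.pullStalk_germ, RefHull.stalkMapₗ_germ, LinearEquiv.symm_apply_eq]
  exact germ_unit_eq_smul y h _

theorem psi_smul (y : Y) (a : W.presheaf.stalk (σ y)) (m : N.presheaf.stalk (σ y)) :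
    psi σ N ψ y (a • m) = σ.stalkMap y a * psi σ N ψ y m := by
  rw [psi, psi, H06Mod.pullStalk_smul, map_smul, map_smul, smul_eq_mul]

theorem isUnit_psi (y : Y) {V : W.Opens} (h : σ y ∈ V) {g : Γ(N, V)} (hg : IsGen N g) :
    IsUnit (psi σ N ψ y (N.presheaf.germ V (σ y) h g)) := by
  rw [psi_germ]
  have hgen := H11Ample.isGen_map_iso ψ (IsGen.pullSect σ hg) y h
  obtain ⟨r, hr⟩ := hgen.2 (oneStalk y)
  change r • _ = oneStalk y at hr
  rw [germ_unit_eq_smul, ← mul_smul] at hr
  exact isUnit_of_mul_isUnit_right (show IsUnit (r * _) from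
    (bijective_smul_oneStalk y).1 (hr.trans (one_smul _ _).symm) ▸ isUnit_one)

theorem psi_specializes {y y' : Y} (h : y' ⤳ y) (m : N.presheaf.stalk (σ y)) :
    psi σ N ψ y' ((N.presheaf.stalkSpecializes (h.map σ.continuous)).hom m) =
      (Y.presheaf.stalkSpecializes h).hom (psi σ N ψ y m) := by
  obtain ⟨V, hV, g, rfl⟩ := TopCat.Presheaf.exists_germ_eq N.presheaf m
  rw [TopCat.Presheaf.germ_stalkSpecializes_apply, psi_germ, psi_germ]
  exact (TopCat.Presheaf.germ_stalkSpecializes_apply Y.presheaf hV h _).symm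

end Psi

variable {W Y : Scheme.{u}} [IsIntegral W] [IsLocallyNoetherian W] [IsIntegral Y] [IsLocallyNoetherian Y]
  (p : W ⟶ Y) (σ : Y ⟶ W)

theorem sp_sp {N : W.Modules} {z z' : W} (h : z' ⤳ z) (m : N.presheaf.stalk z) :
    sp N z' ((N.presheaf.stalkSpecializes h).hom m) = sp N z m := by
  obtain ⟨V, hV, g, rfl⟩ := TopCat.Presheaf.exists_germ_eq N.presheaf m
  rw [TopCat.Presheaf.germ_stalkSpecializes_apply, sp_germ, sp_germ]

theorem spO_spec {z z' : W} (h : z' ⤳ z) (a : W.presheaf.stalk z) :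
    spO z' (H26CDiv.spec h a) = spO z a := by
  obtain ⟨V, hV, g, rfl⟩ := TopCat.Presheaf.exists_germ_eq W.presheaf a
  rw [H26CDiv.spec_germ, spO_germ, spO_germ]

theorem spec_smul {N : W.Modules} {z z' : W} (h : z' ⤳ z) (a : W.presheaf.stalk z) (m : N.presheaf.stalk z) :
    (N.presheaf.stalkSpecializes h).hom (a • m) = H26CDiv.spec h a • (N.presheaf.stalkSpecializes h).hom m := by
  obtain ⟨V, hV, r, g, rfl, rfl⟩ := H06Mod.exists_germ_pair N z a m
  rw [← H06Mod.germ_smul, TopCat.Presheaf.germ_stalkSpecializes_apply, H26CDiv.spec_germ,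
    TopCat.Presheaf.germ_stalkSpecializes_apply, H06Mod.germ_smul]

omit [IsLocallyNoetherian W] in
theorem isStalkGen_germ {N : W.Modules} {V : W.Opens} {g : Γ(N, V)} (hg : IsGen N g) {x : W} (hx : x ∈ V) :
    IsStalkGen N x (N.presheaf.germ V x hx g) where
  span_eq := eq_top_iff.2 fun v _ => by
    obtain ⟨r, rfl⟩ := (hg x hx).2 v
    exact Submodule.smul_mem _ _ (Submodule.mem_span_singleton_self _)
  sp_ne := by
    rw [sp_germ]
    intro h
    exact one_ne_zero ((hg _ (genericPoint_mem hx)).1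
      (show (1 : W.presheaf.stalk (genericPoint W)) • _ = (0 : W.presheaf.stalk (genericPoint W)) • _ by
        rw [h, smul_zero, smul_zero]))
  exists_smul v := by
    rw [sp_germ]
    obtain ⟨φ, hφ⟩ := (hg _ (genericPoint_mem hx)).2 v
    exact ⟨φ, hφ.symm⟩

theorem isRef1_of_isInvertible {N : W.Modules} (hN : PicF.IsInvertible N) : RefHull.IsRef1 N := by
  have hc : Coh.IsCoh N := H11Ample.isCoh_of_isInvertible hN
  have hfree : ∀ x : W, Nonempty (W.presheaf.stalk x ≃ₗ[W.presheaf.stalk x] N.presheaf.stalk x) := fun x => by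
    obtain ⟨V, g, hV, hg⟩ := H11Ample.exists_gen hN x
    exact ⟨LinearEquiv.ofBijective (LinearMap.toSpanSingleton _ _ _) (hg x hV)⟩
  refine ⟨hc, (isReflexive_iff _ hc).mpr fun x => Module.equiv (hfree x).some,
    genInvertible_of_stalkFree _ hc ⟨(Module.Basis.singleton (Fin 1) _).map (hfree _).some⟩⟩

theorem eq_generic_or_eq {e y : Y} (he : Order.coheight e ≤ 1) (h : y ⤳ e) : y = genericPoint Y ∨ y = e := by
  by_contra hc
  push Not at hc
  have h1 : e < y := lt_of_le_not_ge (Scheme.le_iff_specializes.2 h)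
    fun h' => hc.2 (h.antisymm (Scheme.le_iff_specializes.1 h')).eq
  have h2 : y < genericPoint Y := lt_of_le_not_ge
    (Scheme.le_iff_specializes.2 ((genericPoint_spec Y).specializes trivial))
    fun h' => hc.1 ((Scheme.le_iff_specializes.1 h').antisymm ((genericPoint_spec Y).specializes trivial)).eq
  have h3 := Order.coheight_add_one_le h1
  have h4 := Order.coheight_add_one_le h2
  have h5 : (1 : ℕ∞) + 1 ≤ Order.coheight e :=
    le_trans (add_le_add_left (le_trans le_add_self h4) 1) h3
  exact absurd (h5.trans he) (by decide)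

include p in
/-- An invertible module trivial on a section and rigid over the generic point is trivial. -/
theorem nonempty_iso [Flat p] (hσ : σ ≫ p = 𝟙 Y) (hW : Pi1.IsNormalScheme W)
    (hfib : ∀ e : Y, IsPreirreducible (p ⁻¹' {e}))
    (hufd : ∀ e : Y, Order.coheight e ≤ 1 → UniqueFactorizationMonoid (W.presheaf.stalk (σ e)))
    (N : W.Modules) (hN : PicF.IsInvertible N)
    (ψ : (Scheme.Modules.pullback σ).obj N ≅ Coh.structureModule Y)
    {v₀ : N.presheaf.stalk (genericPoint W)}
    (hv₀ : ∀ x : W, p x = genericPoint Y → ∃ t, IsStalkGen N x t ∧ sp N x t = v₀) :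
    Nonempty (N ≅ Coh.structureModule W) := by
  classical
  let η := genericPoint Y
  have hpσ : ∀ y : Y, p (σ y) = y := fun y =>
    (Scheme.Hom.comp_apply σ p y).symm.trans (by rw [hσ]; rfl)
  have hpξ : p (genericPoint W) = η := by
    have h : p (genericPoint W) ⤳ η := by
      have := ((genericPoint_spec W).specializes (Set.mem_univ (σ η))).map p.continuous
      rwa [hpσ] at this
    exact (h.antisymm ((genericPoint_spec Y).specializes trivial)).eq
  obtain ⟨V₀, g₀, hV₀, hg₀⟩ := H11Ample.exists_gen hN (σ η)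
  obtain ⟨t₀, ht₀, hst₀⟩ := hv₀ _ (hpσ η)
  obtain ⟨w₀, hw₀⟩ := (hg₀ _ hV₀).2 t₀
  have hu₀ : IsUnit (psi σ N ψ η t₀) := by
    letI := (isField_generic (X := Y)).toField
    refine isUnit_iff_ne_zero.2 fun h => ?_
    rw [← show w₀ • N.presheaf.germ V₀ (σ η) hV₀ g₀ = t₀ from hw₀, psi_smul] at h
    rcases mul_eq_zero.1 h with h1 | h1
    · have hw : ¬ IsUnit w₀ := fun hu => (hu.map (σ.stalkMap η).hom).ne_zero h1
      have hsp := ht₀.span_eq
      have : N.presheaf.germ V₀ (σ η) hV₀ g₀ ∈
          Submodule.span (W.presheaf.stalk (σ η)) {t₀} := by rw [hsp]; trivial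
      obtain ⟨c, hc⟩ := Submodule.mem_span_singleton.1 this
      rw [← show w₀ • N.presheaf.germ V₀ (σ η) hV₀ g₀ = t₀ from hw₀, ← mul_smul] at hc
      exact hw (isUnit_of_mul_isUnit_right
        ((hg₀ _ hV₀).1 (hc.trans (one_smul (W.presheaf.stalk (σ η)) _).symm) ▸ isUnit_one))
    · exact (isUnit_psi σ N ψ η hV₀ hg₀).ne_zero h1
  obtain ⟨ri, hri⟩ := hu₀.exists_left_inv
  obtain ⟨O, hηO, r, rfl⟩ := TopCat.Presheaf.exists_germ_eq Y.presheaf ri
  have hru : IsUnit (Y.presheaf.germ O η hηO r) := IsUnit.of_mul_eq_one _ hri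
  let v := W.presheaf.germ (p ⁻¹ᵁ O) (genericPoint W) (show p (genericPoint W) ∈ O by rw [hpξ]; exact hηO) (p.app O r) • v₀
  have hv : ∀ x : W, p x = η → ∃ t, IsStalkGen N x t ∧ sp N x t = v := fun x hx => by
    obtain ⟨t, ht, hs⟩ := hv₀ x hx
    have hxO : x ∈ p ⁻¹ᵁ O := show p x ∈ O from hx.symm ▸ hηO
    have hu : IsUnit (W.presheaf.germ (p ⁻¹ᵁ O) x hxO (p.app O r)) := by
      have hb : p x ∈ Y.basicOpen r := hx.symm ▸ (Y.mem_basicOpen r η hηO).2 hru
      have := ((Y.mem_basicOpen r (p x) hxO).1 hb).map (p.stalkMap x).hom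
      rwa [← Scheme.Hom.germ_stalkMap_apply p O x hxO r]
    refine ⟨W.presheaf.germ (p ⁻¹ᵁ O) x hxO (p.app O r) • t, ⟨?_, ?_, fun w => ?_⟩, ?_⟩
    · rw [Submodule.span_singleton_smul_eq hu, ht.span_eq]
    · rw [sp_smul]
      intro h
      obtain ⟨c, hc⟩ := hu
      apply ht.sp_ne
      have h' := congrArg (spO x (↑c⁻¹ : W.presheaf.stalk x) • ·) h
      simp only [smul_zero] at h'
      rwa [← hc, ← mul_smul, ← map_mul, Units.inv_mul, map_one, one_smul] at h'
    · obtain ⟨φ, hφ⟩ := ht.exists_smul w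
      obtain ⟨c, hc⟩ := hu
      refine ⟨φ * spO x (↑c⁻¹ : W.presheaf.stalk x), ?_⟩
      rw [sp_smul, ← hc, mul_smul, ← mul_smul (spO x _), ← map_mul, Units.inv_mul, map_one, one_smul]
      exact hφ
    · rw [sp_smul, spO_germ, hs]
  have htv : sp N (σ η) (W.presheaf.germ (p ⁻¹ᵁ O) (σ η) (show p (σ η) ∈ O from (hpσ η).symm ▸ hηO) (p.app O r) • t₀) = v := by
    rw [sp_smul, spO_germ, hst₀]
  obtain ⟨t₁, ht₁⟩ : ∃ t₁, W.presheaf.germ (p ⁻¹ᵁ O) (σ η) (show p (σ η) ∈ O from (hpσ η).symm ▸ hηO)
      (p.app O r) • t₀ = t₁ := ⟨_, rfl⟩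
  rw [ht₁] at htv
  have hψ₁ : psi σ N ψ η t₁ = 1 := by
    rw [← ht₁, psi_smul, ← hri]
    congr 1
    rw [Scheme.Hom.germ_stalkMap_apply]
    have := congr($(Scheme.Hom.congr_app hσ O) r)
    rw [Scheme.Hom.comp_app] at this
    change σ.app _ (p.app O r) = _ at this
    rw [this]
    simp only [ConcreteCategory.comp_apply]
    exact TopCat.Presheaf.germ_res_apply' _ _ _ _ r
  have hvne : v ≠ 0 := by
    obtain ⟨t, ht, hs⟩ := hv (σ η) (hpσ η)
    exact hs ▸ ht.sp_ne
  have hgen : ∀ x : W, Order.coheight x = 1 → ∃ t, IsStalkGen N x t ∧ sp N x t = v := by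
    intro x hx
    by_cases hxη : p x = η
    · exact hv x hxη
    let e := p x
    have he : Order.coheight e ≤ 1 := (H06EGA12.coheight_le_of_flat p x).trans hx.le
    have hone : ∀ x' : W, p x' = e → x' ⤳ x → x' = x := fun x' h' hs => by
      by_contra hne
      have h1 : x < x' := lt_of_le_not_ge (Scheme.le_iff_specializes.2 hs)
        fun hr => hne (hs.antisymm (Scheme.le_iff_specializes.1 hr)).eq
      have h2 : x' < genericPoint W := lt_of_le_not_ge
        (Scheme.le_iff_specializes.2 ((genericPoint_spec W).specializes trivial))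
        fun hr => hxη (h'.symm.trans
          ((((genericPoint_spec W).specializes trivial).antisymm (Scheme.le_iff_specializes.1 hr)).eq ▸ hpξ))
      have h3 := Order.coheight_add_one_le h1
      have h4 := Order.coheight_add_one_le h2
      have h5 : (1 : ℕ∞) + 1 ≤ Order.coheight x := le_trans (add_le_add_left (le_trans le_add_self h4) 1) h3
      rw [hx] at h5
      exact absurd h5 (by decide)
    -- the generic point of the fibre
    have hirr : IsIrreducible (p ⁻¹' {e} : Set W) := ⟨⟨σ e, hpσ e⟩, hfib e⟩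
    let g := hirr.genericPoint
    have hgspec := hirr.isGenericPoint_genericPoint_closure
    have hge : ∀ x' : W, p x' = e → g ⤳ x' := fun x' h' => hgspec.specializes (subset_closure h')
    have hgle : ∀ {x' : W}, p x' = e → p g ⤳ e := fun {x'} h' => h' ▸ (hge x' h').map p.continuous
    have hpg : p g = e := by
      rcases eq_generic_or_eq he (hgle rfl) with h | h
      · have h1 : g ∈ closure (p ⁻¹' {e}) := hgspec.mem
        have h2 : p g ∈ closure ({e} : Set Y) := map_mem_closure p.continuous h1 fun a ha => ha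
        have h3 : e ⤳ p g := specializes_iff_mem_closure.2 h2
        exact ((hgle rfl).antisymm h3).eq
      · exact h
    have hgx : g = x := hone g hpg (hge x rfl)
    have hxz : x ⤳ σ e := hgx ▸ hge (σ e) (hpσ e)
    haveI := hufd e he
    haveI := (hW (σ e)).1
    let R := W.presheaf.stalk (σ e)
    obtain ⟨V, G, hzV, hG⟩ := H11Ample.exists_gen hN (σ e)
    let t := N.presheaf.germ V (σ e) hzV G
    have ht := isStalkGen_germ hG hzV
    obtain ⟨φ, hφ⟩ := ht.exists_smul v
    obtain ⟨a, b, hco, hab⟩ := IsFractionRing.exists_reduced_fraction (A := R) (K := W.functionField) φ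
    have hab' : (φ : W.presheaf.stalk (genericPoint W)) * spO (σ e) (b : R) = spO (σ e) a := by
      rw [← hab]
      exact IsLocalization.mk'_spec _ a b
    have hrel : spO (σ e) (b : R) • v = spO (σ e) a • sp N (σ e) t := by
      rw [hφ, ← mul_smul, mul_comm, hab']
    have hb0 : (b : R) ≠ 0 := nonZeroDivisors.ne_zero b.2
    have ha0 : a ≠ 0 := fun h0 => by
      rw [h0, map_zero, zero_smul] at hrel
      letI := (isField_generic (X := W)).toField
      rcases smul_eq_zero.1 hrel with h | h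
      · exact hb0 (spO_injective _ (h.trans (map_zero _).symm))
      · exact hvne h
    -- prime factors come from points of the fibre
    have hfac : ∀ r : R, Prime r → (r ∣ a ∨ r ∣ (b : R)) →
        H26CDiv.qOf hxz = Ideal.span {r} := by
      intro r hr hdvd
      haveI : (Ideal.span {r}).IsPrime := (Ideal.span_singleton_prime hr.ne_zero).2 hr
      obtain ⟨x', hx', hq⟩ := H26CDiv.exists_qOf_eq (x := σ e) (Ideal.span {r})
      have hmem : ∀ c : R, IsUnit (H26CDiv.spec hx' c) ↔ ¬ r ∣ c := fun c => by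
        rw [← Ideal.mem_span_singleton, ← hq, H26CDiv.mem_qOf_iff, not_not]
      have hpx' : p x' = e := by
        rcases eq_generic_or_eq he ((hpσ e) ▸ hx'.map p.continuous) with h | h
        · exfalso
          obtain ⟨t', ht', hst'⟩ := hv x' h
          obtain ⟨w, hw⟩ := (hG x' (hx'.mem_open V.2 hzV)).2 t'
          have hwu : IsUnit w := by
            have : N.presheaf.germ V x' (hx'.mem_open V.2 hzV) G ∈
                Submodule.span (W.presheaf.stalk x') {t'} := by rw [ht'.span_eq]; trivial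
            obtain ⟨c, hc⟩ := Submodule.mem_span_singleton.1 this
            rw [← show w • _ = t' from hw, ← mul_smul] at hc
            exact isUnit_of_mul_isUnit_right
              ((hG x' (hx'.mem_open V.2 hzV)).1 (hc.trans (one_smul (W.presheaf.stalk x') _).symm) ▸ isUnit_one)
          have hv' : v = spO x' w • sp N (σ e) t := by
            rw [← hst', ← show w • _ = t' from hw, sp_smul, sp_germ, sp_germ]
          have heq : H26CDiv.spec hx' (b : R) * w = H26CDiv.spec hx' a := by
            refine spO_injective x' (smul_right_inj N ht.sp_ne ?_)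
            rw [map_mul, mul_smul, ← hv', spO_spec, spO_spec, hrel]
          have hu := congrArg IsUnit heq
          rw [IsUnit.mul_iff, hmem, hmem, eq_iff_iff] at hu
          rcases hdvd with hd | hd
          · exact (hu.mp ⟨fun hb => hr.not_isUnit (hco hd hb), hwu⟩) hd
          · exact (hu.mpr fun ha => hr.not_isUnit (hco ha hd)).1 hd
        · exact h
      have hgx' : g ⤳ x' := hge x' hpx'
      have hne : H26CDiv.qOf hxz ≠ ⊥ := fun h0 => by
        have h1 := H26CDiv.height_qOf hxz
        rw [h0, Ideal.height_bot, hx] at h1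
        exact zero_ne_one (WithBot.coe_injective h1)
      have hle : H26CDiv.qOf hxz ≤ Ideal.span {r} := by
        rw [← hq]
        intro c hc
        rw [H26CDiv.mem_qOf_iff] at hc ⊢
        intro hu
        apply hc
        have hxx' : x ⤳ x' := hgx ▸ hgx'
        have hh := hu.map (H26CDiv.spec hxx')
        convert hh using 1
        exact (congr($(W.presheaf.stalkSpecializes_comp hxx' hx') c)).symm
      have hpr : (H26CDiv.qOf hxz).IsPrime := Ideal.IsPrime.comap _
      obtain ⟨s, hs, hsp⟩ := Ideal.IsPrime.exists_mem_prime_of_ne_bot hpr hne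
      refine le_antisymm hle ((Ideal.span_singleton_le_iff_mem _).2 ?_)
      have : Associated r s := hr.associated_of_dvd hsp (Ideal.mem_span_singleton.1 (hle hs))
      exact Ideal.mem_of_dvd _ this.symm.dvd hs
    have huniq : ∀ r s : R, Prime r → Prime s → (r ∣ a ∨ r ∣ (b : R)) → (s ∣ a ∨ s ∣ (b : R)) → r ∣ s :=
      fun r s hr hs h1 h2 => Ideal.mem_span_singleton.1
        (((hfac r hr h1).symm.trans (hfac s hs h2)).ge (Ideal.mem_span_singleton_self s))
    -- the pulled back relation
    have hηe : η ⤳ e := (genericPoint_spec Y).specializes trivial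
    have hz₀ : σ η ⤳ σ e := hηe.map σ.continuous
    have hrel₁ : H26CDiv.spec hz₀ (b : R) • t₁ =
        H26CDiv.spec hz₀ a • (N.presheaf.stalkSpecializes hz₀).hom t := by
      refine sp_injective N (H11Ample.isCoh_of_isInvertible hN).1
        (isTorsionFree_of_isReflexive N (H11Ample.isCoh_of_isInvertible hN) (isRef1_of_isInvertible hN).2.1) _ ?_
      rw [sp_smul, sp_smul, htv, sp_sp, spO_spec, spO_spec]
      exact hrel
    have hc : IsUnit (psi σ N ψ e t) := isUnit_psi σ N ψ e hzV hG
    have hA : (σ.stalkMap e).hom (b : R) = (σ.stalkMap e).hom a * psi σ N ψ e t := by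
      have h1 := congrArg (psi σ N ψ η) hrel₁
      rw [psi_smul, psi_smul, hψ₁, mul_one, psi_specializes σ N ψ hηe] at h1
      refine spO_injective e ?_
      rw [map_mul]
      refine Eq.trans ?_ (h1.trans ?_)
      · exact (Scheme.Hom.stalkSpecializes_stalkMap_apply σ η e hηe (b : R)).symm
      · exact congrArg (· * _) (Scheme.Hom.stalkSpecializes_stalkMap_apply σ η e hηe a)
    obtain ⟨hau, hbu⟩ := isUnit_of_coprime_of_map (σ.stalkMap e).hom hb0 ha0 hco huniq hc hA
    obtain ⟨d, hd⟩ := hbu.exists_left_inv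
    have hxV : x ∈ V := hxz.mem_open V.2 hzV
    refine ⟨H26CDiv.spec hxz (d * a) • N.presheaf.germ V x hxV G, ?_, ?_⟩
    · have hu : IsUnit (H26CDiv.spec hxz (d * a)) :=
        ((IsUnit.of_mul_eq_one _ hd).mul hau).map _
      obtain ⟨c, hc'⟩ := hu
      have h0 := isStalkGen_germ hG hxV
      refine ⟨?_, ?_, fun w => ?_⟩
      · rw [Submodule.span_singleton_smul_eq (hc' ▸ c.isUnit), h0.span_eq]
      · intro h
        apply h0.sp_ne
        rw [← one_smul (W.presheaf.stalk x) (N.presheaf.germ V x hxV G), ← Units.inv_mul c, mul_smul,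
          sp_smul, hc', h, smul_zero]
      · obtain ⟨φ', hφ'⟩ := h0.exists_smul w
        refine ⟨φ' * spO x (↑c⁻¹ : W.presheaf.stalk x), hφ'.trans ?_⟩
        rw [sp_smul, mul_smul, ← mul_smul (spO x _), ← map_mul, ← hc', Units.inv_mul, map_one, one_smul]
    · rw [sp_smul, spO_spec, sp_germ, map_mul, mul_smul, ← sp_germ N (σ e) hzV G, ← hrel, ← mul_smul,
        ← map_mul, hd, map_one, one_smul]
  refine HasOrd.nonempty_iso hW (isRef1_of_isInvertible hN) isRef1_structureModule (D := 0)
    ⟨v, hvne, fun x hx => ?_⟩ hasOrd_structureModule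
  obtain ⟨t, ht, hs⟩ := hgen x hx
  rw [secO_eq hx ht hvne (φ := spO x 1) (by rw [map_one]; exact (hs.symm.trans (one_smul _ _).symm)),
    ord_unit isUnit_one]
  rfl

end Groth.Agent.H12Pic.OpenLine
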